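import Cfsg.Agent.Lib.H17.HeOrd.Simple
import Cfsg.Agent.Lib.H17.HeSp44.Lower
import Cfsg.Agent.Lib.H17.OutTools

set_option autoImplicit false
set_option maxRecDepth 100000

/-! # The presented group He acting on 2058 points: generators and their tables -/

namespace Cfsg.Agent.Lib.H17.HeOut

open Cfsg.Spor Cfsg.Agent.Lib.H17.CosetCert Cfsg.Agent.Lib.H17.CoxGlue Cfsg.Agent.Lib.H17.HeGlue
  Cfsg.Agent.Lib.H17.HeSp44 Cfsg.Agent.Lib.H17.Sgs Cfsg.Agent.Lib.H17.Sift
  Cfsg.Agent.Lib.H17.PermActs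

theorem finite_G : Finite G := Cfsg.Agent.Lib.H17.HeOrd.finite_G

attribute [local instance] finite_G

theorem card_G : Nat.card G = 4030387200 := Cfsg.Agent.Lib.H17.HeOrd.card_eq

theorem tabs_repG : ∀ t ∈ tabs, ∃ g : G, φ g = σ 12 4096 2058 t := by
  intro t ht
  obtain ⟨k, hk, rfl⟩ := List.getElem_of_mem ht
  have hk' : k < 7 := hk
  interval_cases k
  · exact ⟨PresentedGroup.of .a, φ_of _⟩
  · exact ⟨PresentedGroup.of .b, φ_of _⟩
  · exact ⟨PresentedGroup.of .c, φ_of _⟩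
  · exact ⟨PresentedGroup.of .d, φ_of _⟩
  · exact ⟨PresentedGroup.of .e, φ_of _⟩
  · exact ⟨PresentedGroup.of .f, φ_of _⟩
  · exact ⟨PresentedGroup.of .g, φ_of _⟩

/-- the generators by index -/
noncomputable def gens (x : ℕ) : G := PresentedGroup.of (gen x)

/-- the tables by index -/
def tabf (x : ℕ) : ℕ := tabOf (gen x)

theorem acts_gens (x : ℕ) : Acts φ (gens x) (lk 12 4096 (tabf x)) := by
  intro p
  unfold gens tabf
  rw [φ_of]
  exact σ_apply 12 4096 2058 _ (good_tabs _ (tabOf_mem _)) p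

theorem gens_mul_self (x : ℕ) : gens x * gens x = 1 := of_mul_self _

end Cfsg.Agent.Lib.H17.HeOut
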