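import Cfsg.Agent.Lib.H17.HeOut.ChainS
import Cfsg.Agent.Lib.H17.HeOut.ChainD
import Cfsg.Agent.Lib.H17.HeOut.Tabs

set_option autoImplicit false
set_option maxRecDepth 100000

/-! # The outer automorphism group of He has order two (generated) -/

namespace Cfsg.Agent.Lib.H17.HeOut

open Cfsg.Spor Cfsg.Agent.Lib.H17.CosetCert Cfsg.Agent.Lib.H17.CoxGlue Cfsg.Agent.Lib.H17.HeGlue
  Cfsg.Agent.Lib.H17.HeSp44 Cfsg.Agent.Lib.H17.Sgs Cfsg.Agent.Lib.H17.Sift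
  Cfsg.Agent.Lib.H17.PermActs
  Cfsg.Agent.Lib.H17.ConjTest Cfsg.Agent.Lib.H17.OutTools Cfsg.Agent.Lib.H17.OutRigid

attribute [local instance] finite_G

/-- the action of `sE` -/
abbrev aS : ℕ → ℕ := lk 12 4096 TS

/-- the action of `dE` -/
abbrev aD : ℕ → ℕ := lk 12 4096 TD

/-- the action of `c1E` -/
abbrev aC1 : ℕ → ℕ := lk 12 4096 TC1

/-- the action of `c2E` -/
abbrev aC2 : ℕ → ℕ := lk 12 4096 TC2

/-- the power of `dE` whose centraliser is computed -/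
noncomputable def xE : G := dE ^ 2

/-- the action of `xE` -/
noncomputable abbrev aX : ℕ → ℕ := iterA aD 2

theorem acts_xE : Acts φ xE aX := acts_dE.pow 2

/-- a base -/
def bs : List ℕ := [969, 1497, 252, 78, 1, 17, 0]

theorem bs_base : IsBase φ bs := kisBase

theorem bs_lt : ∀ c ∈ bs, c < 2058 := by decide

theorem kbase_eq : kLs.map Lvl.b = orbl aS kLs.length 0 := by decide +kernel

theorem mbase_eq : mLs.map Lvl.b = orbl aX mLs.length 0 := by decide +kernel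

theorem orblS_base : IsBase φ (orbl aS 7 0) :=
  isBase_mono (by decide +kernel) kisBase

theorem orblD_base : IsBase φ (orbl aX 4 0) :=
  isBase_mono (by decide +kernel) misBase

theorem sE_pow : sE ^ 17 = 1 :=
  eq_of_acts bs_base bs_lt (acts_sE.pow 17) Acts.one (by decide +kernel)

theorem sE_ne : sE ≠ 1 :=
  ne_of_acts acts_sE Acts.one 0 (by decide) (by decide +kernel)

theorem order_sE : orderOf sE = 17 := by
  haveI : Fact (Nat.Prime 17) := ⟨by norm_num⟩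
  exact orderOf_eq_prime sE_pow sE_ne

theorem hds : dE * sE * dE⁻¹ = sE ^ 2 := by
  rw [mul_inv_eq_iff_eq_mul]
  exact eq_of_acts bs_base bs_lt (acts_dE.mul acts_sE) ((acts_sE.pow 2).mul acts_dE) (by decide +kernel)

theorem chkCS : allLt (fun δ' => cond (memL (orbl aS 17 0) δ') true
    (Nat.beq (sift 12 4096 kLs (orbl aS kLs.length δ')) 0)) 2058 = true := by
  decide +kernel

/-- the centraliser of `sE` -/
theorem cent_s (x : G) (hx : x * sE = sE * x) : x ∈ Subgroup.zpowers sE := by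
  have h := conj_cases 12 4096 tabs good_tabs tabs_repG kLs kchain acts_sE acts_sE 0 (by decide) kbase_eq
    (memL (orbl aS 17 0)) chkCS x hx
  obtain ⟨i, -, hi⟩ := mem_orbl aS 17 0 _ (memL_sound _ _ h)
  have hxi : x = sE ^ i := by
    apply eq_of_comm_agree 7 0 (by decide) orblS_base acts_sE hx (pow_mul_comm' sE i)
    rw [hi, (acts_sE.pow i).pt 0 (by decide)]
  rw [hxi]
  exact Subgroup.pow_mem _ (Subgroup.mem_zpowers _) i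

theorem chkNC3 : allLt (fun δ' => cond ((fun _ => false) δ') true
    (Nat.beq (sift 12 4096 kLs (orbl (iterA aS 3) kLs.length δ')) 0)) 2058 = true := by
  decide +kernel

/-- `sE` is not conjugate to its power with exponent 3 -/
theorem not_conj3 (g : G) (hg : g * sE = sE ^ 3 * g) : False := by
  have h := conj_cases 12 4096 tabs good_tabs tabs_repG kLs kchain acts_sE (acts_sE.pow 3) 0 (by decide)
    kbase_eq (fun _ => false) chkNC3 g hg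
  exact absurd h (by simp)

/-- generators of the centraliser of `dE` -/
noncomputable def vals : List G := [dE, c1E, c2E]

/-- their actions -/
def As : List (ℕ → ℕ) := [aD, aC1, aC2]

theorem hvals : List.Forall₂ (fun x A => Acts φ x A) vals As :=
  List.Forall₂.cons acts_dE (List.Forall₂.cons acts_c1E (List.Forall₂.cons acts_c2E List.Forall₂.nil))

/-- words for the elements of the centraliser of `dE` -/
def CW : List (List ℕ) :=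
  [[], [0, 1, 2, 0], [2, 2, 0, 1], [1, 2, 1, 0, 1], [0], [0, 0, 0, 2], [0, 0, 1, 2], [0, 1, 2, 2, 0,
    1], [0, 2], [2, 0], [0, 1, 0, 2, 0], [2, 2], [0, 0], [1, 0, 1], [0, 0, 1, 0, 2, 0], [1, 2, 2, 0,
    1], [1, 2, 2, 0], [0, 0, 2, 0, 1], [0, 0, 0, 0, 2, 0, 1], [0, 0, 1, 2, 2], [0, 0, 1, 0, 1], [2,
    1, 0, 2, 1], [0, 0, 0, 1, 0, 2, 1], [0, 2, 1, 0], [0, 0, 0, 1], [0, 0, 2, 2, 0, 1], [1, 2, 2],
    [0, 0, 2, 0], [0, 0, 0, 1, 0, 2], [1], [0, 0, 0, 0, 0], [1, 0, 2], [0, 0, 0, 2, 0, 1], [0, 0, 2,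
    0, 1, 0], [0, 1, 2, 0, 1], [1, 0, 2, 0], [1, 2], [1, 0, 1, 2, 1], [2, 1, 0, 2], [0, 0, 1, 2, 0],
    [0, 0, 1, 0, 2, 1], [1, 2, 1], [1, 0], [0, 2, 1, 0, 1], [0, 0, 0, 1, 0, 1], [0, 1], [2, 2, 0],
    [0, 1, 2], [0, 0, 2], [0, 2, 0, 1, 2], [0, 1, 0, 1, 2, 2], [0, 0, 0, 0, 0, 0], [0, 0, 0], [0, 2,
    1, 0, 2], [0, 2, 2, 0, 1], [0, 0, 1, 0, 1, 0, 2], [0, 0, 1, 2, 1], [1, 0, 1, 0, 2], [0, 0, 1],
    [0, 0, 0, 0, 0, 1], [0, 0, 1, 0, 1, 0], [1, 0, 1, 2], [0, 2, 0], [0, 2, 2, 0], [0, 2, 1], [0, 0,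
    0, 2, 0], [0, 0, 0, 2, 1], [0, 2, 0, 1], [2], [1, 2, 0], [1, 0, 2, 2], [0, 1, 0, 1, 0, 2], [0, 0,
    0, 0, 0, 0, 0], [1, 0, 1, 0, 1, 2], [0, 1, 2, 2, 0], [0, 1, 0, 1, 2, 1], [1, 2, 0, 1, 2], [0, 1,
    0, 1, 0, 2, 0], [2, 1], [0, 0, 0, 0, 1], [2, 1, 0], [2, 0, 1, 0], [0, 0, 0, 0, 0, 0, 2], [0, 1,
    0, 1], [0, 0, 2, 2, 0], [1, 0, 1, 0, 1], [0, 0, 0, 0, 0, 2], [0, 2, 1, 0, 2, 1], [0, 1, 0, 1, 2],
    [0, 0, 0, 1, 0], [0, 1, 2, 2], [1, 2, 1, 0], [1, 0, 1, 0, 2, 0], [0, 0, 1, 0, 2], [0, 1, 0, 2,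
    1], [0, 1, 0, 1, 0, 1], [1, 0, 1, 0, 1, 0], [0, 1, 0, 1, 0], [0, 2, 0, 1, 0], [0, 0, 1, 2, 0, 1],
    [0, 2, 2], [1, 0, 1, 0], [0, 0, 0, 0, 2, 2], [0, 0, 0, 0, 1, 0, 2], [0, 0, 0, 0, 1, 0, 1], [0, 0,
    0, 2, 2], [0, 0, 0, 0, 0, 0, 1], [1, 0, 2, 1], [0, 0, 0, 0, 2, 0], [0, 0, 1, 0], [0, 0, 0, 0],
    [2, 1, 0, 1], [0, 0, 0, 0, 1, 0], [0, 0, 2, 2], [0, 0, 0, 0, 2], [0, 1, 2, 1], [1, 2, 0, 1], [2,
    0, 1], [0, 0, 0, 1, 0, 2, 2], [0, 1, 0, 2, 2], [1, 0, 1, 2, 2], [0, 0, 2, 1], [0, 1, 0], [0, 1,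
    0, 2], [0, 1, 2, 0, 1, 2], [2, 0, 1, 2], [0, 0, 1, 0, 1, 0, 1], [0, 0, 1, 0, 2, 2]]

/-- the images of the point 0 under the elements of the centraliser -/
noncomputable def candD : List ℕ := CW.map fun w => evalA As w 0

theorem chkCD : allLt (fun δ' => cond (memL candD δ') true
    (Nat.beq (sift 12 4096 mLs (orbl aX mLs.length δ')) 0)) 2058 = true := by
  decide +kernel

theorem comm_vals : ∀ v ∈ vals, v * xE = xE * v := by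
  intro v hv
  simp only [vals, List.mem_cons, List.not_mem_nil, or_false] at hv
  rcases hv with rfl | rfl | rfl
  · exact eq_of_acts bs_base bs_lt (acts_dE.mul acts_xE) (acts_xE.mul acts_dE) (by decide +kernel)
  · exact eq_of_acts bs_base bs_lt (acts_c1E.mul acts_xE) (acts_xE.mul acts_c1E) (by decide +kernel)
  · exact eq_of_acts bs_base bs_lt (acts_c2E.mul acts_xE) (acts_xE.mul acts_c2E) (by decide +kernel)

/-- the centraliser of `xE` -/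
theorem cent_d (g : G) (hg : g * xE = xE * g) : ∃ w ∈ CW, g = evalW vals w := by
  have h := conj_cases 12 4096 tabs good_tabs tabs_repG mLs mchain acts_xE acts_xE 0 (by decide) mbase_eq
    (memL candD) chkCD g hg
  obtain ⟨w, hw, hwe⟩ := List.mem_map.mp (memL_sound _ _ h)
  refine ⟨w, hw, ?_⟩
  apply eq_of_comm_agree 4 0 (by decide) orblD_base acts_xE hg (comm_evalW vals xE comm_vals w)
  rw [← hwe, (acts_evalW vals As hvals w).pt 0 (by decide)]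

/-- the words of the images of the generators under an outer automorphism -/
def WθN : ℕ → List ℕ
  | 0 =>
    [5, 4, 3, 2, 6, 3, 5, 1, 2, 3, 2, 1, 2, 3, 2, 3, 1, 2, 3, 6, 3, 2, 1, 3, 2, 3, 2, 3, 1, 2, 3, 6, 3,
      2, 1, 3, 2, 3, 2, 3, 1, 2, 3, 6, 3, 2, 1, 2, 3, 2, 3, 2, 3, 2, 3, 1, 2, 3, 6, 3, 2, 1, 3, 2, 3,
      2, 1, 0, 1, 2, 3, 2, 3, 1, 2, 3, 6, 3, 2, 1, 3, 2, 3, 1, 0, 1, 3, 2, 3, 1, 2, 3, 6, 3, 2, 1, 3,
      2, 3, 2, 1, 0, 1, 2, 3, 2, 3, 1, 2, 3, 6, 3, 2, 1, 3, 2, 3, 1, 0, 1, 3, 2, 3, 1, 2, 3, 6, 3, 2,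
      1, 3, 2, 3, 2, 1, 0, 1, 2, 3, 2, 3, 1, 2, 3, 6, 3, 2, 1, 3, 2, 3, 2, 3, 2, 3, 2, 3, 1, 2, 3, 6,
      3, 2, 1, 3, 2, 3, 2, 1, 0, 1, 2, 3, 2, 3, 1, 2, 3, 6, 3, 2, 1, 3, 2, 3, 2, 3]
  | 1 =>
    [4, 3, 1, 2, 6, 3, 5, 1, 2, 6, 3, 2, 1, 2, 1, 0, 1, 3, 1, 2, 3, 6, 3, 2, 1, 3, 2, 3, 2, 1, 0, 1, 2,
      3, 2, 3, 1, 2, 3, 6, 3, 2, 1, 3, 2, 3, 1, 0, 1, 3, 2, 3, 1, 2, 3, 6, 3, 2, 1, 3, 2, 3, 2, 1, 0,
      1, 2, 3, 2, 3, 1, 2, 3, 6, 3, 2, 1, 3, 2, 3, 2, 3, 2, 1, 0, 1, 3, 2, 3, 1, 2, 3, 6, 3, 2, 1, 3,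
      2, 3, 2, 1, 0, 1, 2, 3, 2, 3, 1, 2, 3, 6, 3, 2, 1, 3, 2, 3, 2, 3, 1, 0, 1]
  | 2 =>
    [2, 1, 2, 3, 2, 4, 6, 3, 2, 1, 3, 2, 3, 2, 3, 2, 3, 1, 2, 3, 6, 3, 2, 1, 3, 2, 3, 2, 1, 0, 1, 2, 3,
      2, 3, 1, 2, 3, 6, 3, 2, 1, 3, 2, 3, 1, 0, 1, 3, 2, 3, 1, 2, 3, 6, 3, 2, 1, 3, 2, 3, 2, 1, 0, 1,
      2, 3, 2, 3, 1, 2, 3, 6, 3, 2, 1, 3, 2, 3, 2, 3, 2, 1, 0, 1, 2, 3, 2, 3, 2, 3, 1, 2, 3, 6, 3, 2,
      1, 3, 2, 3, 2, 1, 0, 1, 2, 3, 2, 3, 1, 2, 3, 6, 3, 2, 1, 3, 2, 3, 1, 0, 1, 2]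
  | 3 =>
    [4, 3, 1, 2, 6, 3, 5, 1, 2, 3, 2, 1, 3, 1, 2, 3, 6, 3, 2, 1, 3, 2, 3, 1, 2, 3, 6, 3, 2, 1, 2, 3, 2,
      1, 0, 1, 2, 1, 0, 1, 2, 3, 2, 3, 1, 2, 3, 6, 3, 2, 1, 3, 2, 3, 2, 3, 2, 1, 0, 1, 2, 3, 2, 3, 2,
      3, 1, 2, 3, 6, 3, 2, 1, 3, 2, 3, 2, 1, 0, 1, 2, 3, 2, 3, 1, 2, 3, 6, 3, 2, 1, 3, 2, 3, 2, 3, 2,
      1, 0, 1, 3, 2, 3, 1, 2, 3, 6, 3, 2, 1, 3, 2, 3, 2, 1, 0, 1, 2, 3, 2, 3, 1, 2, 3, 6, 3, 2, 1, 3,
      2, 3, 2, 3, 2, 3, 2, 3, 1, 2, 3, 6, 3, 2, 1, 3, 2, 3, 2, 1, 0, 1, 2, 3, 2, 3, 1, 2, 3, 6, 3, 2,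
      1, 3, 2, 3, 2, 3]
  | 4 =>
    [4, 3, 6, 5, 3, 4, 2, 3, 1, 2, 3, 6, 2, 3, 1, 2, 3, 6, 3, 2, 1, 3, 2, 1, 0, 1, 2, 3, 2, 3, 1, 2, 3,
      6, 3, 2, 1, 3, 1, 0, 1, 3, 2, 3, 1, 2, 3, 6, 3, 2, 1, 3, 2, 3, 2, 1, 0, 1, 2, 3, 2, 3, 1, 2, 3,
      6, 3, 2, 1, 3, 2, 3, 2, 3, 2, 3, 2, 3, 1, 2, 3, 6, 3, 2, 1, 3, 2, 3, 2, 1, 0, 1, 2, 3, 2, 3, 1,
      2, 3, 6, 3, 2, 1, 3, 2, 3, 1, 0, 1, 2, 3, 2, 3, 2, 3, 1, 2, 3, 6, 3, 2, 1, 3, 2, 3, 2, 1, 0, 1,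
      2, 3, 2, 3, 1, 2, 3, 6, 3, 2, 1, 3, 2, 3, 2, 3, 2, 1, 0, 1, 3, 2, 3, 1, 2, 3, 6, 3, 2, 1, 3, 2,
      3, 2, 1, 0, 1, 2, 3, 2, 3, 1, 2, 3, 6, 3, 2, 1, 3, 2, 3, 2, 3, 2, 3, 2, 3, 1, 2, 3, 6, 3, 2, 1,
      3, 2, 3, 2, 1, 0, 1, 2, 3, 2, 3, 1, 2, 3, 6, 3, 2, 1, 3, 2, 3, 2, 3]
  | 5 =>
    [3, 2, 3, 5, 2, 4, 3, 2, 1, 3, 1, 2, 3, 6, 3, 2, 1, 3, 1, 2, 3, 6, 3, 2, 1, 2, 3, 2, 3, 2, 3, 1, 2,
      3, 6, 3, 2, 1, 3, 2, 3, 2, 3, 2, 3, 1, 2, 3, 6, 3, 2, 1, 3, 2, 3, 2, 1, 0, 1, 2, 3, 2, 3, 1, 2,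
      3, 6, 3, 2, 1, 3, 2, 3, 1, 0, 1, 3, 2, 3, 1, 2, 3, 6, 3, 2, 1, 3, 2, 3, 2, 1, 0, 1, 2, 3, 2, 3,
      1, 2, 3, 6, 3, 2, 1, 3, 2, 3, 2, 3, 2, 1, 0, 1, 3, 2, 3, 1, 2, 3, 6, 3, 2, 1, 3, 2, 3, 2, 1, 0,
      1, 2, 3, 2, 3, 1, 2, 3, 6, 3, 2, 1, 3, 2, 3, 2, 3, 1, 0, 1, 2, 1, 0, 1, 2, 3, 2, 1, 0, 1, 2, 3,
      2, 1, 0, 1, 2]
  | _ =>
    [4, 3, 1, 2, 6, 3, 5, 1, 2, 3, 2, 1, 3, 2, 1, 0, 1, 2, 3, 1, 2, 3, 6, 3, 2, 1, 3, 2, 3, 2, 3, 1, 2,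
      3, 6, 3, 2, 1, 3, 1, 0, 1, 2, 3, 2, 3, 2, 3, 1, 2, 3, 6, 3, 2, 1, 3, 2, 3, 2, 1, 0, 1, 2, 3, 2,
      3, 1, 2, 3, 6, 3, 2, 1, 3, 2, 3, 1, 0, 1, 3, 2, 3, 1, 2, 3, 6, 3, 2, 1, 3, 2, 3, 2, 1, 0, 1, 2,
      3, 2, 3, 1, 2, 3, 6, 3, 2, 1, 3, 2, 3, 1, 0, 1, 2, 3, 2, 1, 0, 1, 2]

theorem eW_append (L1 L2 : List ℕ) : eW gens (L1 ++ L2) = eW gens L1 * eW gens L2 := by
  unfold eW
  rw [List.map_append, List.prod_append]

theorem prod_map_eW (F : ℕ → List ℕ) (w : List ℕ) :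
    (w.map fun x => eW gens (F x)).prod = eW gens (w.flatMap F) := by
  induction w with
  | nil => rfl
  | cons x w ih => rw [List.map_cons, List.prod_cons, ih, List.flatMap_cons, eW_append]

/-- the images of the generators -/
noncomputable def fθ (u : Gen) : G := eW gens (WθN (idx u))

theorem relW_θ : ∀ w ∈ relW, ∀ b ∈ bs,
    applyT 12 4096 ((w.flatMap fun x => WθN (idx (gen x))).reverse.map tabf) b = (fun p => p) b := by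
  decide +kernel

theorem fθ_words : ∀ w ∈ relW, ((w.map gen).map fθ).prod = 1 := by
  intro w hw
  have h1 : (w.map gen).map fθ = w.map fun x => eW gens (WθN (idx (gen x))) := by
    rw [List.map_map]
    rfl
  rw [h1, prod_map_eW]
  exact eq_of_acts bs_base bs_lt (acts_eW 12 4096 gens tabf acts_gens _) Acts.one (relW_θ w hw)

theorem fθ_mul_self (u : Gen) : fθ u * fθ u = 1 := by
  have hmem : [idx u, idx u] ∈ relW := by cases u <;> decide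
  have := fθ_words _ hmem
  simpa [gen_idx] using this

/-- the outer automorphism, as a homomorphism -/
noncomputable def θhom : G →* G :=
  PresentedGroup.toGroup (f := fθ) (lift_rels fθ fθ_mul_self fθ_words)

theorem θhom_of (u : Gen) : θhom (PresentedGroup.of u) = fθ u := PresentedGroup.toGroup.of _

theorem θhom_gens (x : ℕ) : θhom (gens x) = eW gens (WθN (idx (gen x))) := by
  unfold gens
  rw [θhom_of]
  rfl

theorem θhom_eW (L : List ℕ) :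
    θhom (eW gens L) = eW gens (L.flatMap fun x => WθN (idx (gen x))) := by
  induction L with
  | nil => simp [eW]
  | cons x L ih => rw [eW_cons, map_mul, ih, θhom_gens, List.flatMap_cons, eW_append]

theorem θhom_eq (L : List ℕ) {y : G} {Y : ℕ → ℕ} (hy : Acts φ y Y)
    (h : ∀ b ∈ bs,
      applyT 12 4096 ((L.flatMap fun x => WθN (idx (gen x))).reverse.map tabf) b = Y b) :
    θhom (eW gens L) = y := by
  rw [θhom_eW]
  exact eq_of_acts bs_base bs_lt (acts_eW 12 4096 gens tabf acts_gens _) hy h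

/-- the word of the image of `c1E` -/
def wθ : List ℕ := [0, 1, 2, 1]

theorem θhom_s : θhom sE = sE ^ 3 := θhom_eq wS (acts_sE.pow 3) (by decide +kernel)

theorem θhom_d : θhom dE = dE := θhom_eq wD acts_dE (by decide +kernel)

theorem θhom_t : θhom c1E = evalW vals wθ :=
  θhom_eq wC1 (acts_evalW vals As hvals wθ) (by decide +kernel)

theorem θhom_injective : Function.Injective θhom := by
  haveI := Cfsg.Agent.Lib.H17.HeSimple.simple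
  rcases (MonoidHom.normal_ker θhom).eq_bot_or_eq_top with h | h
  · exact (MonoidHom.ker_eq_bot_iff θhom).mp h
  · exfalso
    have h1 : sE ∈ θhom.ker := by rw [h]; trivial
    rw [MonoidHom.mem_ker, θhom_s] at h1
    have h2 := orderOf_dvd_of_pow_eq_one h1
    rw [order_sE] at h2
    exact absurd h2 (by decide)

/-- the outer automorphism -/
noncomputable def θ2 : MulAut G :=
  MulEquiv.ofBijective θhom ⟨θhom_injective, Finite.injective_iff_surjective.mp θhom_injective⟩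

theorem θ2_apply (x : G) : θ2 x = θhom x := rfl

theorem θ2_s : θ2 sE = sE ^ 3 := θhom_s

theorem θ2_d : θ2 dE = dE := θhom_d

theorem θ2_t : θ2 c1E = evalW vals wθ := θhom_t

theorem θ2_not_inner : θ2 ∉ (MulAut.conj : G →* MulAut G).range := by
  rintro ⟨k, hk⟩
  have h1 : k * sE * k⁻¹ = sE ^ 3 := by
    rw [← θ2_s, ← hk, MulAut.conj_apply]
  exact not_conj3 k (by rw [← h1]; group)

/-- words of relations between `sE`, `dE`, `c1E` -/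
def rU : ℕ → List ℕ
  | 0 => [2]
  | 1 => [0, 2]
  | 2 => [1, 2]
  | _ => [0, 2, 1, 2]

/-- the exponents of the relations -/
def rM : ℕ → ℕ
  | 0 => 2
  | 1 => 12
  | 2 => 4
  | _ => 4

theorem hA3 : List.Forall₂ (fun x A => Acts φ x A) [sE, dE, c1E] [aS, aD, aC1] :=
  List.Forall₂.cons acts_sE (List.Forall₂.cons acts_dE (List.Forall₂.cons acts_c1E List.Forall₂.nil))

theorem rel_ok : ∀ r < 4, evalW [sE, dE, c1E] (rU r) ^ (rM r) = 1 := by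
  intro r hr
  apply eq_of_acts bs_base bs_lt ((acts_evalW _ _ hA3 (rU r)).pow (rM r)) Acts.one
  interval_cases r <;> decide +kernel

/-- the check of a candidate `w` for the image of `c1E` with a witness `e` -/
noncomputable def chkPair (j : ℕ) (good w : List ℕ) (e : ℕ × ℕ) : Bool :=
  cond (Nat.beq e.1 9) (decide (w = good))
    (cond (Nat.blt e.1 4) (cond (Nat.blt e.2 2058)
      (cond (Nat.beq (iterA (evalA [iterA aS j, aD, evalA As w] (rU e.1)) (rM e.1) e.2) e.2)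
        false true) false) false)

theorem pair_excl (j : ℕ) (good w : List ℕ) (e : ℕ × ℕ) (h : chkPair j good w e = true)
    (α : MulAut G) (hs : α sE = sE ^ j) (hd : α dE = dE) (ht : α c1E = evalW vals w) :
    w = good := by
  unfold chkPair at h
  cases h9 : Nat.beq e.1 9 with
  | true =>
    rw [h9] at h
    simpa using h
  | false =>
    exfalso
    rw [h9] at h
    simp only [cond_false] at h
    cases h4 : Nat.blt e.1 4 with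
    | false => rw [h4] at h; exact absurd h (by simp)
    | true =>
      rw [h4] at h
      simp only [cond_true] at h
      cases hp : Nat.blt e.2 2058 with
      | false => rw [hp] at h; exact absurd h (by simp)
      | true =>
        rw [hp] at h
        simp only [cond_true] at h
        cases hb : Nat.beq (iterA (evalA [iterA aS j, aD, evalA As w] (rU e.1)) (rM e.1) e.2) e.2 with
        | true => rw [hb] at h; exact absurd h (by simp)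
        | false =>
          have hr : e.1 < 4 := by simpa [Nat.blt_eq] using h4
          have hp' : e.2 < 2058 := by simpa [Nat.blt_eq] using hp
          have h2 := congrArg α (rel_ok e.1 hr)
          rw [map_pow, map_one, map_evalW_equiv] at h2
          simp only [List.map_cons, List.map_nil, hs, hd, ht] at h2
          exact relator_absurd (List.Forall₂.cons (acts_sE.pow j) (List.Forall₂.cons acts_dE
            (List.Forall₂.cons (acts_evalW vals As hvals w) List.Forall₂.nil))) (rU e.1) (rM e.1) e.2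
            hp' h2 hb

/-- the witnesses for the exponent 1 -/
def WT1 : List (ℕ × ℕ) :=
  [(2, 0), (0, 0), (0, 0), (0, 0), (0, 0), (3, 0), (0, 0), (2, 0), (0, 0), (0, 0), (0, 0), (2, 0), (0,
    0), (0, 0), (0, 0), (0, 0), (0, 0), (0, 0), (0, 0), (0, 0), (0, 0), (0, 0), (0, 0), (0, 0), (0,
    0), (0, 0), (3, 0), (3, 0), (0, 0), (9, 0), (0, 0), (0, 0), (0, 0), (0, 0), (0, 0), (2, 0), (2,
    0), (0, 0), (0, 0), (0, 0), (3, 0), (0, 0), (0, 0), (0, 0), (0, 0), (0, 0), (0, 0), (0, 0), (0,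
    0), (3, 0), (2, 0), (0, 0), (0, 0), (1, 0), (0, 0), (0, 0), (0, 0), (0, 0), (0, 0), (0, 0), (0,
    0), (3, 0), (0, 0), (0, 0), (0, 0), (0, 0), (0, 0), (2, 0), (0, 0), (0, 0), (0, 0), (0, 0), (0,
    0), (2, 0), (0, 0), (2, 0), (0, 0), (0, 0), (2, 0), (1, 0), (0, 0), (2, 0), (0, 0), (2, 0), (0,
    0), (0, 0), (0, 0), (0, 0), (0, 0), (3, 0), (0, 0), (3, 0), (0, 0), (0, 0), (0, 0), (0, 0), (0,
    0), (0, 0), (0, 0), (3, 0), (0, 0), (2, 0), (2, 0), (0, 0), (0, 0), (0, 0), (0, 0), (0, 0), (0,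
    0), (0, 0), (2, 0), (3, 0), (0, 0), (0, 0), (0, 0), (3, 0), (0, 0), (0, 0), (1, 0), (0, 0), (0,
    0), (0, 0), (0, 0), (2, 0), (0, 0), (0, 0), (3, 0), (0, 0)]

theorem chkP1 : chkAll (chkPair 1 [1]) CW WT1 = true := by
  decide +kernel

/-- the witnesses for the exponent 3 -/
def WT3 : List (ℕ × ℕ) :=
  [(2, 0), (0, 0), (0, 0), (0, 0), (0, 0), (3, 0), (0, 0), (2, 0), (0, 0), (0, 0), (0, 0), (2, 0), (0,
    0), (0, 0), (0, 0), (0, 0), (0, 0), (0, 0), (0, 0), (0, 0), (0, 0), (0, 0), (0, 0), (0, 0), (0,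
    0), (0, 0), (3, 0), (1, 0), (0, 0), (3, 0), (0, 0), (0, 0), (0, 0), (0, 0), (0, 0), (2, 0), (2,
    0), (0, 0), (0, 0), (0, 0), (3, 0), (0, 0), (0, 0), (0, 0), (0, 0), (0, 0), (0, 0), (0, 0), (0,
    0), (3, 0), (2, 0), (0, 0), (0, 0), (3, 0), (0, 0), (0, 0), (0, 0), (0, 0), (0, 0), (0, 0), (0,
    0), (1, 0), (0, 0), (0, 0), (0, 0), (0, 0), (0, 0), (2, 0), (0, 0), (0, 0), (0, 0), (0, 0), (0,
    0), (2, 0), (0, 0), (2, 0), (0, 0), (0, 0), (2, 0), (3, 0), (0, 0), (2, 0), (0, 0), (2, 0), (0,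
    0), (0, 0), (0, 0), (0, 0), (0, 0), (3, 0), (0, 0), (3, 0), (0, 0), (0, 0), (0, 0), (0, 0), (0,
    0), (0, 0), (0, 0), (1, 0), (0, 0), (2, 0), (2, 0), (0, 0), (0, 0), (0, 0), (0, 0), (0, 0), (0,
    0), (0, 0), (2, 0), (3, 0), (0, 0), (0, 0), (0, 0), (9, 0), (0, 0), (0, 0), (3, 0), (0, 0), (0,
    0), (0, 0), (0, 0), (2, 0), (0, 0), (0, 0), (3, 0), (0, 0)]

theorem chkP3 : chkAll (chkPair 3 [0, 1, 2, 1]) CW WT3 = true := by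
  decide +kernel

theorem hex : ∀ j ∈ [1, 3], ∀ α : MulAut G, α sE = sE ^ j → α dE = dE →
    (α sE = sE ∧ α c1E = c1E) ∨ (α sE = θ2 sE ∧ α c1E = θ2 c1E) := by
  intro j hj α hs hd
  have hx : α xE = xE := by
    unfold xE
    rw [map_pow, hd]
  have hcomm : α c1E * xE = xE * α c1E := by
    have := congrArg α (comm_vals c1E (by simp [vals]))
    rwa [map_mul, map_mul, hx] at this
  obtain ⟨w, hw, hwe⟩ := cent_d _ hcomm
  simp only [List.mem_cons, List.not_mem_nil, or_false] at hj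
  rcases hj with rfl | rfl
  · left
    obtain ⟨e, he⟩ := chkAll_sound _ CW WT1 chkP1 w hw
    have hw3 := pair_excl 1 [1] w e he α hs hd hwe
    refine ⟨by rw [hs, pow_one], ?_⟩
    rw [hwe, hw3]
    simp [evalW, vals]
  · right
    obtain ⟨e, he⟩ := chkAll_sound _ CW WT3 chkP3 w hw
    have hw3 := pair_excl 3 wθ w e he α hs hd hwe
    refine ⟨by rw [hs, θ2_s], ?_⟩
    rw [hwe, hw3, θ2_t]

/-- words in `sE`, `dE`, `c1E` for the left sides -/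
def UW : ℕ → List ℕ
  | 0 =>
    [0, 1, 1, 0, 1, 2, 0, 0, 0, 0, 2, 0, 2, 0]
  | 1 =>
    [1, 1, 0, 2, 0, 0, 2, 0, 2, 1, 2, 1, 0, 2]
  | 2 =>
    [1, 0, 1, 0, 1, 2, 1, 0, 2, 0, 0, 2, 0, 1, 0]
  | 3 =>
    [0, 1, 2, 1, 0, 2, 0, 2, 1, 1, 0, 0, 0, 2]
  | 4 =>
    [1, 2, 1, 0, 2, 0, 2, 1, 1, 0, 0, 0, 2]
  | 5 =>
    [2, 1, 2, 0, 1, 1, 1, 0, 1, 2, 0, 2, 1, 0, 0]
  | _ =>
    [1, 2, 0, 1, 2, 1, 1, 0, 2, 1, 1, 1, 1, 0, 0]

/-- words in `sE`, `dE`, `c1E` for the right factors -/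
def VW : ℕ → List ℕ
  | 0 =>
    [1, 0, 0, 0, 2, 0, 2, 1, 1]
  | 1 =>
    [2, 0, 0, 2, 1, 0, 2, 0, 0, 0]
  | 2 =>
    [2, 1, 2, 1, 1, 0, 2, 0, 2, 0, 2]
  | 3 =>
    [0, 2, 0, 1, 2, 1, 2, 0, 2, 0]
  | 4 =>
    [2, 0, 1, 2, 1, 2, 0, 2, 0]
  | 5 =>
    [2, 1, 2, 0, 2, 0, 2]
  | _ =>
    [1, 2, 0, 1, 2, 1, 1, 0, 2]

theorem gen_eq : ∀ x < 7, gens x * evalW [sE, dE, c1E] (VW x) = evalW [sE, dE, c1E] (UW x) := by
  intro x hx
  apply eq_of_acts bs_base bs_lt ((acts_gens x).mul (acts_evalW _ _ hA3 (VW x)))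
    (acts_evalW _ _ hA3 (UW x))
  interval_cases x <;> decide +kernel

theorem hgen : ∀ ψ : MulAut G, ψ sE = sE → ψ dE = dE → ψ c1E = c1E → ψ = 1 := by
  intro ψ h1 h2 h3
  have hfix : ∀ w, ψ (evalW [sE, dE, c1E] w) = evalW [sE, dE, c1E] w := by
    intro w
    rw [map_evalW_equiv]
    simp only [List.map_cons, List.map_nil, h1, h2, h3]
  apply aut_eq_one_of_closure _ closure_gens
  rintro _ ⟨x, hx, rfl⟩
  have hc := gen_eq x hx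
  have hg : gens x = evalW [sE, dE, c1E] (UW x) * (evalW [sE, dE, c1E] (VW x))⁻¹ :=
    eq_mul_inv_of_mul_eq hc
  change ψ (gens x) = gens x
  rw [hg, map_mul, map_inv, hfix, hfix]

theorem hJ : ∀ i, 0 < i → i < 17 → ∃ j ∈ [1, 3], ∃ l, (i * 2 ^ l) % 17 = j % 17 := by
  intro i h0 h1
  interval_cases i
  · exact ⟨1, by decide, 0, by decide⟩
  · exact ⟨1, by decide, 7, by decide⟩
  · exact ⟨3, by decide, 0, by decide⟩
  · exact ⟨1, by decide, 6, by decide⟩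
  · exact ⟨3, by decide, 2, by decide⟩
  · exact ⟨3, by decide, 7, by decide⟩
  · exact ⟨3, by decide, 5, by decide⟩
  · exact ⟨1, by decide, 5, by decide⟩
  · exact ⟨1, by decide, 1, by decide⟩
  · exact ⟨3, by decide, 1, by decide⟩
  · exact ⟨3, by decide, 3, by decide⟩
  · exact ⟨3, by decide, 6, by decide⟩
  · exact ⟨1, by decide, 2, by decide⟩
  · exact ⟨3, by decide, 4, by decide⟩
  · exact ⟨1, by decide, 3, by decide⟩
  · exact ⟨1, by decide, 4, by decide⟩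

/-- the group of outer automorphisms has order two -/
theorem card_out : Nat.card (MulAut G ⧸ (MulAut.conj : G →* MulAut G).range) = 2 :=
  card_out_eq_two (p := 17) (a := 2) (c := 1) (by norm_num) (by rw [card_G]; decide) sE dE c1E
    order_sE hds cent_s (by decide) [1, 3] hJ hgen θ2 θ2_d θ2_not_inner hex

end Cfsg.Agent.Lib.H17.HeOut
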